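import Groth.Agent.BinForms.Basic

/-!
# Bézout in the affine plane

Two polynomials in two variables of degree `≤ n`, `≤ m` whose components of degree `n`, `m` have no common
factor cut out a quotient of dimension `n * m`.
-/

namespace Groth.Agent.BinForms

open MvPolynomial Module

universe u

variable {K : Type u} [Field K] {σ : Type}

theorem totalDegree_eq_zero_of_isUnit {p : MvPolynomial σ K} (h : IsUnit p) : p.totalDegree = 0 := by
  obtain ⟨x, -, rfl⟩ := MvPolynomial.isUnit_iff_eq_C_of_isReduced.1 h
  exact totalDegree_C x

/-- the component of top degree of a product -/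
theorem homogeneousComponent_mul_top {p q : MvPolynomial σ K} {a b : ℕ} (hp : p.totalDegree ≤ a)
    (hq : q.totalDegree ≤ b) :
    homogeneousComponent (a + b) (p * q) = homogeneousComponent a p * homogeneousComponent b q := by
  classical
  ext d
  rw [coeff_homogeneousComponent]
  by_cases hd : d.degree = a + b
  · rw [if_pos hd, coeff_mul, coeff_mul]
    refine Finset.sum_congr rfl fun x hx => ?_
    rw [coeff_homogeneousComponent, coeff_homogeneousComponent]
    have hsum : x.1.degree + x.2.degree = a + b := by
      rw [← hd, ← Finset.HasAntidiagonal.mem_antidiagonal.1 hx, map_add]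
    by_cases h1 : coeff x.1 p = 0
    · simp [h1]
    by_cases h2 : coeff x.2 q = 0
    · simp [h2]
    have h1' : x.1.degree ≤ a := (le_totalDegree (mem_support_iff.2 h1)).trans hp
    have h2' : x.2.degree ≤ b := (le_totalDegree (mem_support_iff.2 h2)).trans hq
    rw [if_pos (by omega), if_pos (by omega)]
  · rw [if_neg hd]
    exact (((homogeneousComponent_isHomogeneous a p).mul (homogeneousComponent_isHomogeneous b q)).coeff_eq_zero hd).symm

/-- lowering the degree -/
theorem totalDegree_le_of_homogeneousComponent_eq_zero {p : MvPolynomial σ K} {e : ℕ}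
    (hp : p.totalDegree ≤ e + 1) (h0 : homogeneousComponent (e + 1) p = 0) : p.totalDegree ≤ e := by
  classical
  refine Finset.sup_le fun d hd => ?_
  have h1 : d.degree ≤ e + 1 := (le_totalDegree hd).trans hp
  show d.degree ≤ e
  by_contra hlt
  have := congrArg (coeff d) h0
  rw [coeff_homogeneousComponent, if_pos (by omega), coeff_zero] at this
  exact mem_support_iff.1 hd this

/-- twice the dimension of the polynomials of degree at most `d` -/
theorem finrank_restrictTotalDegree_two (d : ℕ) :
    2 * finrank K (restrictTotalDegree (Fin 2) K d) = (d + 1) * (d + 2) := by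
  induction d with
  | zero =>
    have h : restrictTotalDegree (Fin 2) K 0 = homogeneousSubmodule (Fin 2) K 0 := by
      ext p
      rw [mem_restrictTotalDegree, mem_homogeneousSubmodule, Nat.le_zero, totalDegree_eq_zero_iff_eq_C]
      refine ⟨fun h => h ▸ isHomogeneous_C _ _, fun h => ?_⟩
      exact (homogeneousComponent_eq_self h).symm.trans (homogeneousComponent_zero p)
    rw [h, finrank_homogeneous]
  | succ d ih =>
    let φ : restrictTotalDegree (Fin 2) K (d + 1) →ₗ[K] homogeneousSubmodule (Fin 2) K (d + 1) :=
      ((homogeneousComponent (d + 1)).comp (Submodule.subtype _)).codRestrict _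
        fun p => homogeneousComponent_mem _ _
    have hsurj : LinearMap.range φ = ⊤ := by
      refine LinearMap.range_eq_top.2 fun y => ⟨⟨y.1, (mem_restrictTotalDegree _ _ _).2 y.2.totalDegree_le⟩, ?_⟩
      exact Subtype.ext (homogeneousComponent_eq_self y.2)
    have hker : LinearMap.ker φ = (restrictTotalDegree (Fin 2) K d).comap (Submodule.subtype _) := by
      ext p
      rw [LinearMap.mem_ker, Submodule.mem_comap, mem_restrictTotalDegree]
      refine ⟨fun h => totalDegree_le_of_homogeneousComponent_eq_zero ((mem_restrictTotalDegree _ _ _).1 p.2)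
        (congrArg Subtype.val h), fun h => Subtype.ext ?_⟩
      exact homogeneousComponent_eq_zero _ _ (Nat.lt_succ_of_le h)
    have hle : restrictTotalDegree (Fin 2) K d ≤ restrictTotalDegree (Fin 2) K (d + 1) := fun p hp => by
      rw [mem_restrictTotalDegree] at hp ⊢
      omega
    have h1 := φ.finrank_range_add_finrank_ker
    rw [hsurj, finrank_top, hker, (Submodule.comapSubtypeEquivOfLe hle).finrank_eq, finrank_homogeneous] at h1
    rw [← h1]
    ring_nf at ih ⊢
    omega

section

variable {n m : ℕ} (f g : MvPolynomial (Fin 2) K)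

/-- the components of top degree cancel: induction on the degree of a combination -/
theorem exists_bounded_combination (hn : 0 < n) (hm : 0 < m) (hfn : f.totalDegree ≤ n) (hgm : g.totalDegree ≤ m)
    (hrel : IsRelPrime (homogeneousComponent n f) (homogeneousComponent m g))
    {d : ℕ} (hd : n + m ≤ d) (a b : MvPolynomial (Fin 2) K) (hab : (a * f + b * g).totalDegree ≤ d) :
    ∃ a' b' : MvPolynomial (Fin 2) K, a'.totalDegree + n ≤ d ∧ b'.totalDegree + m ≤ d ∧
      a' * f + b' * g = a * f + b * g := by
  have hf0 : homogeneousComponent n f ≠ 0 := fun h0 => by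
    rw [h0, isRelPrime_zero_left] at hrel
    have h1 := totalDegree_eq_zero_of_isUnit hrel
    rw [(homogeneousComponent_isHomogeneous m g).totalDegree hrel.ne_zero] at h1
    omega
  suffices H : ∀ j a b, a.totalDegree + n ≤ d + j → b.totalDegree + m ≤ d + j →
      (a * f + b * g).totalDegree ≤ d → ∃ a' b' : MvPolynomial (Fin 2) K, a'.totalDegree + n ≤ d ∧
        b'.totalDegree + m ≤ d ∧ a' * f + b' * g = a * f + b * g from
    H (a.totalDegree + n + b.totalDegree + m) a b (by omega) (by omega) hab
  intro j
  induction j with
  | zero => exact fun a b ha hb _ => ⟨a, b, ha, hb, rfl⟩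
  | succ j ih =>
    intro a b ha hb hab
    obtain ⟨e, he⟩ := Nat.exists_eq_add_of_le (show n + m ≤ d + (j + 1) by omega)
    have ha' : a.totalDegree ≤ m + e := by omega
    have hb' : b.totalDegree ≤ n + e := by omega
    have h0 : homogeneousComponent (n + m + e) (a * f + b * g) = 0 :=
      homogeneousComponent_eq_zero _ _ (by omega)
    rw [map_add] at h0
    rw [show n + m + e = m + e + n by omega, homogeneousComponent_mul_top ha' hfn,
      show m + e + n = n + e + m by omega, homogeneousComponent_mul_top hb' hgm] at h0
    set F := homogeneousComponent n f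
    set G := homogeneousComponent m g
    have hdvd : G ∣ homogeneousComponent (m + e) a * F :=
      ⟨-homogeneousComponent (n + e) b, by linear_combination h0⟩
    obtain ⟨c, hc⟩ := hrel.symm.dvd_of_dvd_mul_right hdvd
    let c' := homogeneousComponent e c
    have hc' : homogeneousComponent (m + e) a = G * c' := by
      have h1 : homogeneousComponent (m + e) a = homogeneousComponent (m + e) (G * c) := by
        rw [← hc, homogeneousComponent_eq_self (homogeneousComponent_isHomogeneous _ _)]
      rcases eq_or_ne c 0 with rfl | hc0
      · simp [hc, c']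
      have hG0 : G ≠ 0 ∨ G = 0 := (em _).symm
      rcases hG0 with hG0 | hG0
      · rcases eq_or_ne (homogeneousComponent (m + e) a) 0 with ha0 | ha0
        · rw [ha0] at hc
          exact absurd (mul_eq_zero.1 hc.symm) (by tauto)
        have hdeg : c.totalDegree ≤ e := by
          have h2 := congrArg totalDegree hc
          rw [(homogeneousComponent_isHomogeneous (m + e) a).totalDegree ha0, totalDegree_mul_of_isDomain hG0 hc0,
            (homogeneousComponent_isHomogeneous m g).totalDegree hG0] at h2
          omega
        rw [h1, homogeneousComponent_mul_top (homogeneousComponent_isHomogeneous m g).totalDegree_le hdeg,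
          homogeneousComponent_eq_self (homogeneousComponent_isHomogeneous _ _)]
      · simp [hc, hG0]
    have hbc : homogeneousComponent (n + e) b = -(F * c') := by
      rcases eq_or_ne G 0 with hG0 | hG0
      · have hF : IsUnit F := isRelPrime_zero_right.1 (hG0 ▸ hrel)
        obtain ⟨x, -, hx⟩ := MvPolynomial.isUnit_iff_eq_C_of_isReduced.1 hF
        have h3 := (homogeneousComponent_isHomogeneous n f).totalDegree hf0
        rw [show homogeneousComponent n f = F from rfl, hx, totalDegree_C] at h3
        omega
      · exact mul_right_cancel₀ hG0 (by linear_combination h0 - F * hc')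
    have hct : c'.totalDegree ≤ e := (homogeneousComponent_isHomogeneous _ _).totalDegree_le
    have hta : (a - c' * g).totalDegree ≤ m + e := by
      refine (totalDegree_sub _ _).trans (max_le ha' ((totalDegree_mul _ _).trans ?_))
      omega
    have htb : (b + c' * f).totalDegree ≤ n + e := by
      refine (totalDegree_add _ _).trans (max_le hb' ((totalDegree_mul _ _).trans ?_))
      omega
    obtain ⟨k, hk⟩ := Nat.exists_eq_add_of_le (show 1 ≤ m + e by omega)
    obtain ⟨l, hl⟩ := Nat.exists_eq_add_of_le (show 1 ≤ n + e by omega)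
    have hla : (a - c' * g).totalDegree ≤ k := by
      refine totalDegree_le_of_homogeneousComponent_eq_zero (by omega) ?_
      rw [map_sub, show k + 1 = e + m by omega, homogeneousComponent_mul_top hct hgm,
        homogeneousComponent_eq_self (homogeneousComponent_isHomogeneous _ _), show e + m = m + e by omega, hc']
      ring
    have hlb : (b + c' * f).totalDegree ≤ l := by
      refine totalDegree_le_of_homogeneousComponent_eq_zero (by omega) ?_
      rw [map_add, show l + 1 = e + n by omega, homogeneousComponent_mul_top hct hfn,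
        homogeneousComponent_eq_self (homogeneousComponent_isHomogeneous _ _), show e + n = n + e by omega, hbc]
      ring
    have heq : (a - c' * g) * f + (b + c' * f) * g = a * f + b * g := by ring
    obtain ⟨a'', b'', h2, h3, h4⟩ := ih (a - c' * g) (b + c' * f) (by omega) (by omega) (by rw [heq]; exact hab)
    exact ⟨a'', b'', h2, h3, h4.trans heq⟩

/-- coprime top components give coprime polynomials -/
theorem isRelPrime_of_isRelPrime_top (hn : 0 < n) (hfn : f.totalDegree ≤ n) (hgm : g.totalDegree ≤ m)
    (hrel : IsRelPrime (homogeneousComponent n f) (homogeneousComponent m g))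
    (hF : homogeneousComponent n f ≠ 0) (hG : homogeneousComponent m g ≠ 0) :
    IsRelPrime f g := by
  rintro p ⟨a, ha⟩ ⟨b, hb⟩
  have hf0 : f ≠ 0 := fun h => hF (by rw [h, map_zero])
  have hg0 : g ≠ 0 := fun h => hG (by rw [h, map_zero])
  have hp0 : p ≠ 0 := fun h => hf0 (by rw [ha, h, zero_mul])
  have ha0 : a ≠ 0 := fun h => hf0 (by rw [ha, h, mul_zero])
  have hb0 : b ≠ 0 := fun h => hg0 (by rw [hb, h, mul_zero])
  have hfe : f.totalDegree = n := by
    refine le_antisymm hfn (le_of_not_gt fun h => hF (homogeneousComponent_eq_zero _ _ h))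
  have hge : g.totalDegree = m := by
    refine le_antisymm hgm (le_of_not_gt fun h => hG (homogeneousComponent_eq_zero _ _ h))
  rw [ha, totalDegree_mul_of_isDomain hp0 ha0] at hfe
  rw [hb, totalDegree_mul_of_isDomain hp0 hb0] at hge
  have h1 : homogeneousComponent p.totalDegree p ∣ homogeneousComponent n f := by
    rw [ha, ← hfe, homogeneousComponent_mul_top le_rfl le_rfl]
    exact dvd_mul_right _ _
  have h2 : homogeneousComponent p.totalDegree p ∣ homogeneousComponent m g := by
    rw [hb, ← hge, homogeneousComponent_mul_top le_rfl le_rfl]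
    exact dvd_mul_right _ _
  obtain ⟨x, hx0, hx⟩ := MvPolynomial.isUnit_iff_eq_C_of_isReduced.1 (hrel h1 h2)
  have hne : homogeneousComponent p.totalDegree p ≠ 0 := ne_zero_of_dvd_ne_zero hF h1
  have h3 := (homogeneousComponent_isHomogeneous p.totalDegree p).totalDegree hne
  rw [hx, totalDegree_C] at h3
  rw [totalDegree_eq_zero_iff_eq_C.1 h3.symm]
  refine (isUnit_iff_ne_zero.2 fun h => hp0 ?_).map C
  rw [totalDegree_eq_zero_iff_eq_C.1 h3.symm, h, map_zero]

/-- **Bézout in the affine plane** -/
theorem finrank_quotient_span_pair (hn : 0 < n) (hm : 0 < m) (hfn : f.totalDegree ≤ n) (hgm : g.totalDegree ≤ m)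
    (hrel : IsRelPrime (homogeneousComponent n f) (homogeneousComponent m g)) :
    finrank K (MvPolynomial (Fin 2) K ⧸ Ideal.span ({f, g} : Set (MvPolynomial (Fin 2) K))) = n * m := by
  classical
  have hF : homogeneousComponent n f ≠ 0 := fun h0 => by
    rw [h0, isRelPrime_zero_left] at hrel
    obtain ⟨x, -, hx⟩ := MvPolynomial.isUnit_iff_eq_C_of_isReduced.1 hrel
    have h3 := (homogeneousComponent_isHomogeneous m g).totalDegree hrel.ne_zero
    rw [hx, totalDegree_C] at h3
    omega
  have hG : homogeneousComponent m g ≠ 0 := fun h0 => by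
    rw [h0, isRelPrime_zero_right] at hrel
    obtain ⟨x, -, hx⟩ := MvPolynomial.isUnit_iff_eq_C_of_isReduced.1 hrel
    have h3 := (homogeneousComponent_isHomogeneous n f).totalDegree hrel.ne_zero
    rw [hx, totalDegree_C] at h3
    omega
  have hfg := isRelPrime_of_isRelPrime_top f g hn hfn hgm hrel hF hG
  have hg0 : g ≠ 0 := fun h => hG (by rw [h, map_zero])
  have hge : g.totalDegree = m :=
    le_antisymm hgm (le_of_not_gt fun h => hG (homogeneousComponent_eq_zero _ _ h))
  set I := Ideal.span ({f, g} : Set (MvPolynomial (Fin 2) K)) with hI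
  let q : MvPolynomial (Fin 2) K →ₗ[K] MvPolynomial (Fin 2) K ⧸ I := (Ideal.Quotient.mkₐ K I).toLinearMap
  let P : ℕ → Submodule K (MvPolynomial (Fin 2) K) := restrictTotalDegree (Fin 2) K
  have memP : ∀ d p, p ∈ P d ↔ p.totalDegree ≤ d := fun d p => mem_restrictTotalDegree _ _ _
  let W : ℕ → Submodule K (MvPolynomial (Fin 2) K ⧸ I) := fun d => (P d).map q
  have hW : ∀ j, finrank K (W (n + m + j)) = n * m := by
    intro j
    let T : (P (m + j) × P (n + j)) →ₗ[K] MvPolynomial (Fin 2) K :=
      ((LinearMap.mulRight K f).comp (P (m + j)).subtype).coprod ((LinearMap.mulRight K g).comp (P (n + j)).subtype)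
    let S : P j →ₗ[K] P (m + j) × P (n + j) :=
      (((LinearMap.mulRight K g).comp (P j).subtype).codRestrict _ fun c => (memP _ _).2
        ((totalDegree_mul _ _).trans (by have := (memP _ _).1 c.2; simp only [Submodule.coe_subtype]; omega))).prod
      (((LinearMap.mulRight K (-f)).comp (P j).subtype).codRestrict _ fun c => (memP _ _).2
        ((totalDegree_mul _ _).trans (by have := (memP _ _).1 c.2; simp only [Submodule.coe_subtype, totalDegree_neg]; omega)))
    have hS : Function.Injective S := fun c c' h => by
      have := congrArg (fun x => (x.1 : MvPolynomial (Fin 2) K)) h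
      simpa [S, hg0] using this
    have hker : LinearMap.ker T = LinearMap.range S := by
      refine le_antisymm (fun x hx => ?_) ?_
      · have hx' : (x.1 : MvPolynomial (Fin 2) K) * f + x.2 * g = 0 := hx
        obtain ⟨c, hc⟩ : g ∣ (x.1 : MvPolynomial (Fin 2) K) :=
          hfg.symm.dvd_of_dvd_mul_right ⟨-x.2, by linear_combination hx'⟩
        have hc2 : (x.2 : MvPolynomial (Fin 2) K) = c * -f :=
          mul_right_cancel₀ hg0 (by linear_combination hx' - f * hc)
        have hcj : c ∈ P j := by
          rw [memP]
          rcases eq_or_ne c 0 with rfl | hc0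
          · simp
          have h1 := (memP _ _).1 x.1.2
          rw [hc, totalDegree_mul_of_isDomain hg0 hc0, hge] at h1
          omega
        exact ⟨⟨c, hcj⟩, Prod.ext (Subtype.ext (by simp [S, hc, mul_comm])) (Subtype.ext (by simp [S, hc2]))⟩
      · rintro _ ⟨c, rfl⟩
        show ((c : MvPolynomial (Fin 2) K) * g) * f + (c * -f) * g = 0
        ring
    have hrange : LinearMap.range T = P (n + m + j) ⊓ LinearMap.ker q := by
      refine le_antisymm ?_ fun p ⟨hp, hpI⟩ => ?_
      · rintro _ ⟨x, rfl⟩
        refine ⟨(memP _ _).2 ((totalDegree_add _ _).trans (max_le ((totalDegree_mul _ _).trans ?_)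
          ((totalDegree_mul _ _).trans ?_))), Ideal.Quotient.eq_zero_iff_mem.2 ?_⟩
        · show (x.1 : MvPolynomial (Fin 2) K).totalDegree + f.totalDegree ≤ _
          have := (memP _ _).1 x.1.2; omega
        · show (x.2 : MvPolynomial (Fin 2) K).totalDegree + g.totalDegree ≤ _
          have := (memP _ _).1 x.2.2; omega
        · exact I.add_mem (I.mul_mem_left _ (Ideal.subset_span (by simp))) (I.mul_mem_left _ (Ideal.subset_span (by simp)))
      · obtain ⟨a, b, hab⟩ := Ideal.mem_span_pair.1 (Ideal.Quotient.eq_zero_iff_mem.1 hpI)
        obtain ⟨a', b', h1, h2, h3⟩ := exists_bounded_combination f g hn hm hfn hgm hrel (d := n + m + j)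
          (by omega) a b (by rw [hab]; exact (memP _ _).1 hp)
        exact ⟨(⟨a', (memP _ _).2 (by omega)⟩, ⟨b', (memP _ _).2 (by omega)⟩), h3.trans hab⟩
    have h1 := T.finrank_range_add_finrank_ker
    rw [hker, LinearMap.finrank_range_of_inj hS, finrank_prod, hrange] at h1
    have h2 := (q.domRestrict (P (n + m + j))).finrank_range_add_finrank_ker
    have hk : LinearMap.ker (q.domRestrict (P (n + m + j))) =
        (P (n + m + j) ⊓ LinearMap.ker q).comap (P (n + m + j)).subtype := by
      ext x
      simp
    rw [LinearMap.range_domRestrict, hk, (Submodule.comapSubtypeEquivOfLe inf_le_left).finrank_eq] at h2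
    have e1 : 2 * finrank K (P (n + m + j)) = (n + m + j + 1) * (n + m + j + 2) := finrank_restrictTotalDegree_two _
    have e2 : 2 * finrank K (P (m + j)) = (m + j + 1) * (m + j + 2) := finrank_restrictTotalDegree_two _
    have e3 : 2 * finrank K (P (n + j)) = (n + j + 1) * (n + j + 2) := finrank_restrictTotalDegree_two _
    have e4 : 2 * finrank K (P j) = (j + 1) * (j + 2) := finrank_restrictTotalDegree_two _
    show finrank K ((P (n + m + j)).map q) = n * m
    nlinarith [h1, h2, e1, e2, e3, e4]
  have hmono : ∀ j, W (n + m) ≤ W (n + m + j) := fun j =>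
    Submodule.map_mono fun p hp => (memP _ _).2 (((memP _ _).1 hp).trans (by omega))
  have htop : W (n + m) = ⊤ := by
    refine top_unique fun x _ => ?_
    obtain ⟨p, rfl⟩ := Ideal.Quotient.mk_surjective x
    have h1 : q p ∈ W (n + m + p.totalDegree) := Submodule.mem_map_of_mem ((memP _ _).2 (by omega))
    haveI : Module.Finite K (W (n + m + p.totalDegree)) := Module.Finite.map _ _
    rw [Submodule.eq_of_le_of_finrank_eq (hmono p.totalDegree) (by rw [hW, show finrank K (W (n + m)) = n * m from hW 0])]
    exact h1
  rw [← finrank_top K (MvPolynomial (Fin 2) K ⧸ I), ← htop]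
  exact hW 0

end

end Groth.Agent.BinForms
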