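import Mathlib

/-!
# Binary forms
-/

namespace Groth.Agent.BinForms

open MvPolynomial Module

universe u

variable (K : Type u) [Field K]

/-- the exponent `(i, n - i)` -/
noncomputable def expo (n : ℕ) (i : Fin (n + 1)) : Fin 2 →₀ ℕ :=
  Finsupp.single 0 (i : ℕ) + Finsupp.single 1 (n - i)

theorem expo_injective (n : ℕ) : Function.Injective (expo n) := fun i j h => by
  refine Fin.ext ?_
  have := DFunLike.congr_fun h 0
  simpa [expo] using this

/-- binary forms from their coefficients -/
noncomputable def bin (n : ℕ) : (Fin (n + 1) → K) →ₗ[K] MvPolynomial (Fin 2) K :=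
  ∑ i, (LinearMap.proj i).smulRight (monomial (expo n i) 1)

theorem bin_apply (n : ℕ) (c : Fin (n + 1) → K) : bin K n c = ∑ i, monomial (expo n i) (c i) := by
  simp [bin, LinearMap.sum_apply, smul_monomial]

theorem coeff_bin (n : ℕ) (c : Fin (n + 1) → K) (j : Fin (n + 1)) : coeff (expo n j) (bin K n c) = c j := by
  classical
  rw [bin_apply, coeff_sum, Finset.sum_eq_single j]
  · simp
  · exact fun i _ hij => by rw [coeff_monomial, if_neg fun h => hij (expo_injective n h)]
  · simp

theorem bin_injective (n : ℕ) : Function.Injective (bin K n) := fun a b h => funext fun j => by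
  rw [← coeff_bin K n a j, h, coeff_bin]

theorem range_bin (n : ℕ) : LinearMap.range (bin K n) = homogeneousSubmodule (Fin 2) K n := by
  classical
  refine le_antisymm ?_ fun p hp => ?_
  · rintro _ ⟨c, rfl⟩
    rw [bin_apply]
    refine Submodule.sum_mem _ fun i _ => isHomogeneous_monomial _ ?_
    have := i.isLt
    simp [expo, Finsupp.degree_eq_sum, Fin.sum_univ_two]
    omega
  · refine ⟨fun i => coeff (expo n i) p, MvPolynomial.ext _ _ fun d => ?_⟩
    by_cases hd : ∃ i, expo n i = d
    · obtain ⟨i, rfl⟩ := hd
      rw [coeff_bin]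
    · push Not at hd
      rw [bin_apply, coeff_sum, Finset.sum_eq_zero fun i _ => by rw [coeff_monomial, if_neg (hd i)]]
      by_contra hc
      have hdeg := hp (Ne.symm hc)
      simp [Finsupp.weight_apply, Finsupp.sum_fintype, Fin.sum_univ_two] at hdeg
      refine hd ⟨d 0, by omega⟩ (Finsupp.ext fun j => ?_)
      fin_cases j <;> simp [expo] <;> omega

theorem finrank_homogeneous (n : ℕ) : finrank K (homogeneousSubmodule (Fin 2) K n) = n + 1 := by
  rw [← range_bin, LinearMap.finrank_range_of_inj (bin_injective K n), finrank_fin_fun]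

instance finite_homogeneous (n : ℕ) : Module.Finite K (homogeneousSubmodule (Fin 2) K n) := by
  rw [← range_bin]; infer_instance

/-- multiplication of forms -/
noncomputable def mulHom (a b : ℕ) : homogeneousSubmodule (Fin 2) K a →ₗ[K]
    homogeneousSubmodule (Fin 2) K b →ₗ[K] homogeneousSubmodule (Fin 2) K (a + b) :=
  LinearMap.mk₂ K (fun g h => ⟨g.1 * h.1, IsHomogeneous.mul g.2 h.2⟩)
    (fun g g' h => Subtype.ext (by simp [add_mul])) (fun c g h => Subtype.ext (by simp [smul_mul_assoc]))
    (fun g h h' => Subtype.ext (by simp [mul_add])) (fun c g h => Subtype.ext (by simp [mul_smul_comm]))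

@[simp] theorem coe_mulHom (a b : ℕ) (g : homogeneousSubmodule (Fin 2) K a) (h : homogeneousSubmodule (Fin 2) K b) :
    (mulHom K a b g h : MvPolynomial (Fin 2) K) = g * h := rfl

end Groth.Agent.BinForms
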